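import Groth.Prelude.Def_GLinSh
import Groth.Prelude.Def_ChGrp
import Groth.Agent.Lib.AssocBundle.Basic
import Mathlib.AlgebraicGeometry.Morphisms.QuasiFinite
import Mathlib.AlgebraicGeometry.PullbackCarrier
import Mathlib.AlgebraicGeometry.Artinian

/-!
# Orbits and stabilisers under a torsor for a normal subgroup
-/

set_option autoImplicit false

universe u

open CategoryTheory CategoryTheory.Limits MonoidalCategory CartesianMonoidalCategory MonObj AlgebraicGeometry

namespace GrothLib.CartTorsor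

variable {S : Scheme.{u}}

theorem isPullback_whiskerRight_fst {C D : Over S} (f : C ⟶ D) (A : Over S) :
    IsPullback (f ▷ A).left (fst C A).left (fst D A).left f.left := by
  have hw : (f ▷ A).left ≫ (fst D A).left = (fst C A).left ≫ f.left := by
    rw [← Over.comp_left, ← Over.comp_left, whiskerRight_fst]
  have h1 : (f ▷ A).left ≫ pullback.snd D.hom A.hom = pullback.snd C.hom A.hom := by
    show (f ▷ A).left ≫ (snd D A).left = (snd C A).left
    rw [← Over.comp_left, whiskerRight_snd]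
  refine IsPullback.of_right (h₁₂ := pullback.snd D.hom A.hom) (v₁₃ := A.hom) (h₂₂ := D.hom)
    ?_ hw (IsPullback.of_hasPullback D.hom A.hom).flip
  rw [h1, Over.w f]
  exact (IsPullback.of_hasPullback C.hom A.hom).flip

theorem property_whiskerRight (Q : MorphismProperty Scheme.{u}) [Q.IsStableUnderBaseChange]
    {C D : Over S} (f : C ⟶ D) (A : Over S) (h : Q f.left) : Q (f ▷ A).left :=
  MorphismProperty.of_isPullback (P := Q) (isPullback_whiskerRight_fst f A).flip h

/-- A finite type scheme over a field with finitely many points is finite. -/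
theorem isFinite_iff_finite {K : Type u} [Field K] {Z : Scheme.{u}} (f : Z ⟶ Spec (CommRingCat.of K))
    [LocallyOfFiniteType f] : IsFinite f ↔ Finite Z := by
  constructor
  · intro hf
    rw [← Set.finite_univ_iff]
    haveI : Subsingleton ↥(Spec (CommRingCat.of K)) := inferInstanceAs (Subsingleton (PrimeSpectrum K))
    refine (f.finite_preimage (s := Set.univ) Set.finite_univ).subset fun x _ => trivial
  · intro hf
    haveI : JacobsonSpace Z := LocallyOfFiniteType.jacobsonSpace f
    haveI : DiscreteTopology Z := inferInstance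
    haveI : CompactSpace Z := Finite.compactSpace
    haveI : QuasiCompact f := (HasAffineProperty.iff_of_isAffine (P := @QuasiCompact)).mpr inferInstance
    haveI : LocallyQuasiFinite f := by
      rw [locallyQuasiFinite_iff_isDiscrete_preimage_singleton]
      exact fun _ => isDiscrete_iff_discreteTopology.mpr inferInstance
    exact IsFinite.of_locallyQuasiFinite f

variable {G N H X Y P : Over S} [GrpObj G] [GrpObj N] [GrpObj H] {iN : N ⟶ G} [IsMonHom iN]
  {q : G ⟶ H} [IsMonHom q] {a : AlgGrp.Action G X} {aY : AlgGrp.Action H Y} {φ : X ⟶ Y}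

theorem psi_comm (hequiv : (q ⊗ₘ φ) ≫ aY.act = a.act ≫ φ) (x : P ⟶ X) :
    GIT.psi a x ≫ (φ ▷ P) = (q ▷ P) ≫ GIT.psi aY (x ≫ φ) := by
  apply CartesianMonoidalCategory.hom_ext
  · rw [GIT.psi, GIT.psi, Category.assoc, whiskerRight_fst, lift_fst_assoc, Category.assoc, Category.assoc,
      lift_fst, ← hequiv]
    rw [← Category.assoc (G ◁ x), ← Category.assoc (q ▷ P)]
    congr 1
    ext <;> simp
  · rw [GIT.psi, GIT.psi, Category.assoc, whiskerRight_snd, lift_snd, Category.assoc, lift_snd,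
      whiskerRight_snd]

theorem act_unique (hker : AlgGrp.IsKernel iN q) (hcart : IsPullback (a.restrict iN).act (snd N X) φ φ)
    {T : Over S} (g g' : T ⟶ G) (x : T ⟶ X) (hq : g ≫ q = g' ≫ q)
    (hx : lift g x ≫ a.act = lift g' x ≫ a.act) : g = g' := by
  have h1 : (g'⁻¹ * g) ≫ q = toUnit T ≫ η[H] := by
    rw [MonObj.mul_comp, GrpObj.inv_comp, hq, inv_mul_cancel, Hom.one_def]
  have h2 : hker.lift (g'⁻¹ * g) (toUnit T) h1 ≫ iN = g'⁻¹ * g := hker.lift_fst _ _ _
  have h3 : lift (hker.lift (g'⁻¹ * g) (toUnit T) h1) x = lift (1 : T ⟶ N) x := by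
    refine hcart.hom_ext ?_ (by rw [lift_snd, lift_snd])
    rw [AlgGrp.Action.lift_restrict_act, AlgGrp.Action.lift_restrict_act, h2, MonObj.one_comp,
      AlgGrp.Action.lift_mul_act, hx, ← AlgGrp.Action.lift_mul_act, inv_mul_cancel]
  have h4 := congrArg (· ≫ fst N X) h3
  simp only [lift_fst] at h4
  rw [h4, MonObj.one_comp, eq_comm, inv_mul_eq_one] at h2
  exact h2.symm

theorem exists_act_lift (hker : AlgGrp.IsKernel iN q) (hcart : IsPullback (a.restrict iN).act (snd N X) φ φ)
    (hequiv : (q ⊗ₘ φ) ≫ aY.act = a.act ≫ φ) {T : Over S} (g : T ⟶ G) (x x' : T ⟶ X)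
    (h : lift (g ≫ q) (x ≫ φ) ≫ aY.act = x' ≫ φ) :
    ∃ g' : T ⟶ G, g' ≫ q = g ≫ q ∧ lift g' x ≫ a.act = x' := by
  have h1 : x' ≫ φ = (lift g x ≫ a.act) ≫ φ := by
    rw [Category.assoc, ← hequiv, lift_map_assoc, h]
  let r := hcart.lift x' (lift g x ≫ a.act) h1
  have h4 : r = lift (r ≫ fst N X) (lift g x ≫ a.act) := by
    rw [← hcart.lift_snd x' (lift g x ≫ a.act) h1, ← comp_lift, lift_fst_snd, Category.comp_id]
  refine ⟨((r ≫ fst N X) ≫ iN) * g, ?_, ?_⟩
  · have hw : iN ≫ q = toUnit N ≫ η[H] := hker.w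
    rw [MonObj.mul_comp, Category.assoc (r ≫ fst N X) iN q, hw, ← Category.assoc,
      toUnit_unique ((r ≫ fst N X) ≫ toUnit N) (toUnit T), ← Hom.one_def, _root_.one_mul]
  · rw [AlgGrp.Action.lift_mul_act, ← AlgGrp.Action.lift_restrict_act, ← h4]
    exact hcart.lift_fst _ _ _

/-- The comparison map to the fibre product of the orbit map downstairs with `φ × P` is surjective mono. -/
theorem comparison (hker : AlgGrp.IsKernel iN q) (hcart : IsPullback (a.restrict iN).act (snd N X) φ φ)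
    (hequiv : (q ⊗ₘ φ) ≫ aY.act = a.act ≫ φ) [Surjective q.left] (x : P ⟶ X) :
    ∃ K : G ⊗ P ⟶ pullback (GIT.psi aY (x ≫ φ)) (φ ▷ P),
      K ≫ pullback.snd _ _ = GIT.psi a x ∧ Mono K.left ∧ Surjective K.left := by
  have hc := psi_comm hequiv x
  let W := pullback (GIT.psi aY (x ≫ φ)) (φ ▷ P)
  let w₁ : W ⟶ H ⊗ P := pullback.fst _ _
  let w₂ : W ⟶ X ⊗ P := pullback.snd _ _
  let K : G ⊗ P ⟶ W := pullback.lift (q ▷ P) (GIT.psi a x) hc.symm
  have hK₁ : K ≫ w₁ = q ▷ P := pullback.lift_fst _ _ _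
  have hK₂ : K ≫ w₂ = GIT.psi a x := pullback.lift_snd _ _ _
  have hpsi : ∀ {T : Over S} (g : T ⟶ G) (p : T ⟶ P),
      lift g p ≫ GIT.psi a x = lift (lift g (p ≫ x) ≫ a.act) p := fun g p => by
    rw [GIT.psi, comp_lift, lift_whiskerLeft_assoc, lift_snd]
  have hmono : Mono K := ⟨fun {T} l l' hl => by
    have e1 : (l ≫ fst G P) ≫ q = (l' ≫ fst G P) ≫ q := by
      have := congrArg (fun t => t ≫ w₁ ≫ fst H P) hl
      simpa only [Category.assoc, reassoc_of% hK₁, whiskerRight_fst] using this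
    have e2 : l ≫ snd G P = l' ≫ snd G P := by
      have := congrArg (fun t => t ≫ w₁ ≫ snd H P) hl
      simpa only [Category.assoc, reassoc_of% hK₁, whiskerRight_snd] using this
    have el : l = lift (l ≫ fst G P) (l ≫ snd G P) := by rw [← comp_lift, lift_fst_snd, Category.comp_id]
    have el' : l' = lift (l' ≫ fst G P) (l ≫ snd G P) := by
      rw [e2, ← comp_lift, lift_fst_snd, Category.comp_id]
    have e3 := congrArg (fun t => t ≫ w₂ ≫ fst X P) hl
    simp only [Category.assoc, reassoc_of% hK₂] at e3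
    rw [el, el', reassoc_of% hpsi, lift_fst, reassoc_of% hpsi, lift_fst] at e3
    rw [el, el', act_unique hker hcart _ _ _ e1 e3]⟩
  refine ⟨K, hK₂, inferInstanceAs (Mono ((Over.forget S).map K)), ?_⟩
  let T := pullback w₁ (q ▷ P)
  let t₁ : T ⟶ W := pullback.fst _ _
  let t₂ : T ⟶ G ⊗ P := pullback.snd _ _
  have ht : t₁ ≫ w₁ = t₂ ≫ (q ▷ P) := pullback.condition
  have hw : w₁ ≫ GIT.psi aY (x ≫ φ) = w₂ ≫ (φ ▷ P) := pullback.condition
  have hp : t₁ ≫ w₂ ≫ snd X P = t₂ ≫ snd G P := by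
    have := congrArg (fun m => t₁ ≫ m ≫ snd Y P) hw
    simp only [Category.assoc, GIT.psi, lift_snd, whiskerRight_snd] at this
    rw [← this, reassoc_of% ht, whiskerRight_snd]
  have hx : lift ((t₂ ≫ fst G P) ≫ q) ((t₂ ≫ snd G P ≫ x) ≫ φ) ≫ aY.act = (t₁ ≫ w₂ ≫ fst X P) ≫ φ := by
    have := congrArg (fun m => t₁ ≫ m ≫ fst Y P) hw
    simp only [Category.assoc, GIT.psi, lift_fst, whiskerRight_fst, reassoc_of% ht] at this
    simp only [Category.assoc, ← this]
    have et : t₂ = lift (t₂ ≫ fst G P) (t₂ ≫ snd G P) := by rw [← comp_lift, lift_fst_snd, Category.comp_id]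
    conv_rhs => rw [et]
    rw [lift_whiskerRight_assoc, lift_whiskerLeft_assoc, Category.assoc, Category.assoc]
  obtain ⟨g', hg', hg'x⟩ := exists_act_lift hker hcart hequiv _ _ _ hx
  have hl : lift g' (t₂ ≫ snd G P) ≫ K = t₁ := by
    apply pullback.hom_ext
    · change (_ ≫ K) ≫ w₁ = t₁ ≫ w₁
      rw [Category.assoc, hK₁, ht]
      apply CartesianMonoidalCategory.hom_ext
      · simp only [Category.assoc, whiskerRight_fst, lift_fst_assoc]
        rw [hg', Category.assoc]
      · simp only [Category.assoc, whiskerRight_snd, lift_snd]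
    · change (_ ≫ K) ≫ w₂ = t₁ ≫ w₂
      rw [Category.assoc, hK₂, hpsi]
      apply CartesianMonoidalCategory.hom_ext
      · rw [lift_fst, Category.assoc, Category.assoc, hg'x]
      · rw [lift_snd, Category.assoc, hp]
  haveI : Surjective (q ▷ P).left := property_whiskerRight @Surjective.{u} q P inferInstance
  haveI : Surjective t₁.left :=
    MorphismProperty.of_isPullback (P := @Surjective)
      ((IsPullback.of_hasPullback w₁ (q ▷ P)).map (Over.forget S)).flip ‹Surjective (q ▷ P).left›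
  have hs : Surjective ((lift g' (t₂ ≫ snd G P)).left ≫ K.left) := by
    rw [← Over.comp_left, hl]; infer_instance
  exact Surjective.of_comp (lift g' (t₂ ≫ snd G P)).left K.left

end GrothLib.CartTorsor

namespace GrothLib.CartTorsor

variable {S : Scheme.{u}} {G N H X Y P : Over S} [GrpObj G] [GrpObj N] [GrpObj H] {iN : N ⟶ G} [IsMonHom iN]
  {q : G ⟶ H} [IsMonHom q] {a : AlgGrp.Action G X} {aY : AlgGrp.Action H Y} {φ : X ⟶ Y}

theorem range_psi_and_finite_stab (hker : AlgGrp.IsKernel iN q)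
    (hcart : IsPullback (a.restrict iN).act (snd N X) φ φ)
    (hequiv : (q ⊗ₘ φ) ≫ aY.act = a.act ≫ φ) [Surjective q.left] (x : P ⟶ X) :
    Set.range (GIT.psi a x).left.base = (φ ▷ P).left.base ⁻¹' Set.range (GIT.psi aY (x ≫ φ)).left.base ∧
      (Finite (GLinSh.stab a x) ↔ Finite (GLinSh.stab aY (x ≫ φ))) := by
  obtain ⟨K, hK, hKm, hKs⟩ := comparison hker hcart hequiv x
  let w₁ := (pullback.fst (GIT.psi aY (x ≫ φ)) (φ ▷ P)).left
  let w₂ := (pullback.snd (GIT.psi aY (x ≫ φ)) (φ ▷ P)).left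
  have sq : IsPullback w₁ w₂ (GIT.psi aY (x ≫ φ)).left (φ ▷ P).left :=
    (IsPullback.of_hasPullback _ _).map (Over.forget S)
  have hK' : K.left ≫ w₂ = (GIT.psi a x).left := by rw [← Over.comp_left, hK]
  refine ⟨?_, ?_⟩
  · rw [← Scheme.Pullback.range_snd, ← hK', ← sq.isoPullback_hom_snd]
    have h1 : Function.Surjective (K.left ≫ sq.isoPullback.hom).base := (K.left ≫ sq.isoPullback.hom).surjective
    rw [← Category.assoc, Scheme.Hom.comp_base, TopCat.coe_comp, Set.range_comp, h1.range_eq, Set.image_univ]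
  let s := (lift x (𝟙 P)).left
  have hs : s ≫ (φ ▷ P).left = (lift (x ≫ φ) (𝟙 P)).left := by rw [← Over.comp_left, lift_whiskerRight]
  let i1 : pullback K.left (pullback.fst w₂ s) ≅ GLinSh.stab a x :=
    pullbackRightPullbackFstIso w₂ s K.left ≪≫ pullback.congrHom hK' rfl
  let m := pullback.snd K.left (pullback.fst w₂ s)
  have hm : Function.Bijective m.base := ⟨m.injective, m.surjective⟩
  have sq2 : IsPullback (pullback.fst w₂ s ≫ w₁) (pullback.snd w₂ s) (GIT.psi aY (x ≫ φ)).left
      (s ≫ (φ ▷ P).left) :=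
    ((IsPullback.of_hasPullback w₂ s).flip.paste_vert sq.flip).flip
  rw [hs] at sq2
  exact (i1.symm.hom.homeomorph.toEquiv.finite_iff.trans (Equiv.ofBijective _ hm).finite_iff).trans
    sq2.isoPullback.hom.homeomorph.toEquiv.finite_iff

end GrothLib.CartTorsor
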