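import Groth.Agent.Lib.CartTorsor.Geom
import Groth.Agent.Lib.AssocBundle.Descent
import Groth.Agent.Lib.TorsorDesc.Basic

/-!
# The quotient of a torsor by a normal subgroup
-/

set_option autoImplicit false

universe u

open CategoryTheory CategoryTheory.Limits MonoidalCategory CartesianMonoidalCategory MonObj AlgebraicGeometry

namespace GrothLib.CartTorsor

variable {S : Scheme.{u}}

/-- Zariski local triviality is local triviality on an open neighbourhood of every point. -/
theorem zariski_of_forall {B A : Scheme.{u}} (j : A ⟶ B)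
    (h : ∀ y : B, ∃ (U : B.Opens) (s : (U : Scheme.{u}) ⟶ A), y ∈ U ∧ s ≫ j = U.ι) :
    NonAbH1.IsLocallyTrivialFor Scheme.zariskiPrecoverage (Over.mk j : Over B) := by
  choose U s hy hs using h
  refine ⟨Presieve.ofArrows (fun y => (U y : Scheme.{u})) (fun y => (U y).ι),
    (Scheme.ofArrows_mem_precoverage_iff _).mpr ⟨fun x => ⟨x, ⟨x, hy x⟩, rfl⟩, fun y => inferInstance⟩, ?_⟩
  rintro T f ⟨y⟩
  exact ⟨s y, hs y⟩

theorem forall_of_zariski {B A : Scheme.{u}} {j : A ⟶ B}
    (h : NonAbH1.IsLocallyTrivialFor Scheme.zariskiPrecoverage (Over.mk j : Over B)) (y : B) :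
    ∃ (U : B.Opens) (s : (U : Scheme.{u}) ⟶ A), y ∈ U ∧ s ≫ j = U.ι := by
  obtain ⟨R, hR, hsec⟩ := h
  obtain ⟨κ, T, f, rfl⟩ := R.exists_eq_ofArrows
  rw [Scheme.ofArrows_mem_precoverage_iff] at hR
  obtain ⟨hcov, hop⟩ := hR
  obtain ⟨i, hi⟩ := hcov y
  haveI := hop i
  obtain ⟨s, hs⟩ := hsec (f i) (Presieve.ofArrows.mk i)
  refine ⟨(f i).opensRange, (f i).isoOpensRange.inv ≫ s, hi, ?_⟩
  change (_ ≫ s) ≫ j = _
  rw [Category.assoc, show s ≫ j = f i from hs, Scheme.Hom.isoOpensRange_inv_comp]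

variable {G N Q X Y : Over S} [GrpObj G] [GrpObj N] [GrpObj Q] {iN : N ⟶ G} [IsMonHom iN]
  {q : G ⟶ Q} [IsMonHom q] {a : AlgGrp.Action G X} {φ : X ⟶ Y}

/-- For a torsor and a faithfully flat homomorphism `q : G ⟶ Q` with kernel `N`, the quotient by `N`
is a `Q`-torsor over the base, and `X` is an `N`-torsor over it. -/
theorem exists_factor (hker : AlgGrp.IsKernel iN q) [IsAffineHom Q.hom] [IsAffineHom G.hom] [Flat G.hom]
    [LocallyOfFinitePresentation G.hom] [Flat q.left] [Surjective q.left] [IsAffineHom q.left]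
    (hcart : IsPullback a.act (snd G X) φ φ)
    (hloc : NonAbH1.IsLocallyTrivialFor Scheme.fpqcPrecoverage (Over.mk φ.left : Over Y.left)) :
    ∃ (W : Over S) (b : AlgGrp.Action Q W) (π₁ : X ⟶ W) (r : W ⟶ Y), π₁ ≫ r = φ ∧
      IsPullback b.act (snd Q W) r r ∧
      NonAbH1.IsLocallyTrivialFor Scheme.fpqcPrecoverage (Over.mk r.left : Over Y.left) ∧
      IsPullback (a.restrict iN).act (snd N X) π₁ π₁ ∧
      NonAbH1.IsLocallyTrivialFor Scheme.fpqcPrecoverage (Over.mk π₁.left : Over W.left) := by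
  obtain ⟨_, _, _⟩ := affine_flat hcart hloc
  haveI : LocallyOfFinitePresentation φ.left :=
    (property @LocallyOfFinitePresentation.{u} hcart hloc inferInstance).1
  let c : AlgGrp.Action G Q := (NonAbH1.trivialAction (G := Q)).restrict q
  have hc : ∀ {T : Over S} (g : T ⟶ G) (t : T ⟶ Q), lift g t ≫ c.act = (g ≫ q) * t := fun g t => by
    rw [AlgGrp.Action.lift_restrict_act]; rfl
  have h0 : IsPullback a.act.left (snd G X).left φ.left φ.left := hcart.map (Over.forget _)
  obtain ⟨W, π, r, -, hπf, hπs, hinv, sq⟩ := GrothLib.AssocBundle.exists_associated_of_affine (b := c) h0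
  have hd : IsPullback (a.prod c).act (snd G (X ⊗ Q)) π π :=
    IsPullback.of_map (Over.forget S) hinv (GrothLib.AssocBundle.isPullback_diagMap h0 hinv sq)
  haveI : IsAffineHom π.left := MorphismProperty.of_isPullback (P := @IsAffineHom) sq ‹_›
  have sqO : IsPullback (fst X Q) π φ r := IsPullback.of_map (Over.forget S) (Over.OverMorphism.ext sq.w) sq
  -- the descended action
  let R : Q ⊗ (X ⊗ Q) ⟶ X ⊗ Q :=
    lift (snd _ _ ≫ fst _ _) ((snd _ _ ≫ snd _ _) * (fst _ _)⁻¹)
  have hR : ∀ {T : Over S} (t : T ⟶ Q) (p : T ⟶ X ⊗ Q),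
      lift t p ≫ R = lift (p ≫ fst X Q) ((p ≫ snd X Q) * t⁻¹) := fun t p => by
    simp only [R, comp_lift, MonObj.comp_mul, GrpObj.comp_inv, lift_fst, lift_snd_assoc]
  have heq : ∀ {T : Over S} (p p' : T ⟶ X ⊗ Q), p ≫ π = p' ≫ π →
      ∃ g : T ⟶ G, p = lift (lift g (p' ≫ fst X Q) ≫ a.act) ((g ≫ q) * (p' ≫ snd X Q)) := by
    intro T p p' h
    refine ⟨hd.lift p p' h ≫ fst G (X ⊗ Q), ?_⟩
    conv_lhs => rw [← hd.lift_fst p p' h]
    have e : hd.lift p p' h = lift (hd.lift p p' h ≫ fst G (X ⊗ Q)) (lift (p' ≫ fst X Q) (p' ≫ snd X Q)) := by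
      rw [← comp_lift p', lift_fst_snd, Category.comp_id]
      conv_rhs => enter [2]; rw [← hd.lift_snd p p' h]
      rw [← comp_lift, lift_fst_snd, Category.comp_id]
    conv_lhs => rw [e, AlgGrp.Action.lift_prod_act, hc]
  have hinv' : ∀ {T : Over S} (g : T ⟶ G) (x : T ⟶ X) (t : T ⟶ Q),
      lift (lift g x ≫ a.act) ((g ≫ q) * t) ≫ π = lift x t ≫ π := by
    intro T g x t
    rw [← hc, ← AlgGrp.Action.lift_prod_act, Category.assoc, hd.w, lift_snd_assoc]
  have hlocπ : NonAbH1.IsLocallyTrivialFor Scheme.fpqcPrecoverage (Over.mk π.left : Over W.left) :=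
    isLocallyTrivialFor_of_flat π.left
  haveI : EffectiveEpi π.left := GrothLib.TorsorDesc.effectiveEpi_of_localSections _ hlocπ
  haveI : EffectiveEpi (Q ◁ π).left := GrothLib.TorsorDesc.effectiveEpi_whiskerLeft Q π hlocπ
  obtain ⟨act, hact, -⟩ := GrothLib.TorsorDesc.existsUnique_desc (Q ◁ π) (R ≫ π) (fun T v w h => by
    have h1 : v ≫ fst Q (X ⊗ Q) = w ≫ fst Q (X ⊗ Q) := by
      have := congrArg (· ≫ fst Q W) h; simpa using this
    have h2 : (v ≫ snd Q (X ⊗ Q)) ≫ π = (w ≫ snd Q (X ⊗ Q)) ≫ π := by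
      have := congrArg (· ≫ snd Q W) h; simpa using this
    have ev : v = lift (v ≫ fst Q (X ⊗ Q)) (v ≫ snd Q (X ⊗ Q)) := by
      rw [← comp_lift, lift_fst_snd, Category.comp_id]
    have ew : w = lift (w ≫ fst Q (X ⊗ Q)) (w ≫ snd Q (X ⊗ Q)) := by
      rw [← comp_lift, lift_fst_snd, Category.comp_id]
    obtain ⟨g, hg⟩ := heq _ _ h2
    rw [ev, ew, reassoc_of% hR, reassoc_of% hR, ← h1, hg]
    simp only [lift_fst, lift_snd]
    rw [_root_.mul_assoc (g ≫ q), hinv'])
  have hact' : ∀ {T : Over S} (t : T ⟶ Q) (p : T ⟶ X ⊗ Q),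
      lift t (p ≫ π) ≫ act = lift (p ≫ fst X Q) ((p ≫ snd X Q) * t⁻¹) ≫ π := fun t p => by
    rw [← hR t p, Category.assoc, ← hact, lift_whiskerLeft_assoc]
  let b : AlgGrp.Action Q W :=
    { act := act
      one_act := by
        haveI : EffectiveEpi (𝟙_ (Over S) ◁ π).left := GrothLib.TorsorDesc.effectiveEpi_whiskerLeft _ π hlocπ
        refine GrothLib.TorsorDesc.cancel_of_effectiveEpi (𝟙_ (Over S) ◁ π) ?_
        apply AlgGrp.Action.hom_ext_lift₂
        intro T e p
        have he : e ≫ η[Q] = 1 := by rw [Hom.one_def, toUnit_unique (toUnit T) e]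
        rw [lift_whiskerLeft_assoc, lift_whiskerRight_assoc, lift_whiskerLeft_assoc, he, leftUnitor_hom,
          lift_snd, hact', inv_one, _root_.mul_one, ← comp_lift, lift_fst_snd, Category.comp_id]
      mul_act := by
        haveI : EffectiveEpi ((Q ⊗ Q) ◁ π).left := GrothLib.TorsorDesc.effectiveEpi_whiskerLeft _ π hlocπ
        refine GrothLib.TorsorDesc.cancel_of_effectiveEpi ((Q ⊗ Q) ◁ π) ?_
        apply AlgGrp.Action.hom_ext_lift₃
        intro T t t' p
        rw [lift_whiskerLeft_assoc, lift_whiskerRight_assoc, ← Hom.mul_def, hact', lift_whiskerLeft_assoc,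
          lift_lift_associator_hom_assoc, lift_whiskerLeft_assoc, hact', hact', lift_fst, lift_snd,
          _root_.mul_inv_rev, _root_.mul_assoc] }
  -- the quotient is a `Q`-torsor
  have hbr : b.act ≫ r = snd Q W ≫ r := by
    refine GrothLib.TorsorDesc.cancel_of_effectiveEpi (Q ◁ π) ?_
    change (Q ◁ π) ≫ act ≫ r = _
    rw [reassoc_of% hact, ← sqO.w, whiskerLeft_snd_assoc, ← sqO.w]
    simp [R]
  have hshear : IsPullback R (snd Q (X ⊗ Q)) (fst X Q) (fst X Q) := by
    refine ⟨⟨by simp [R]⟩, ⟨PullbackCone.IsLimit.mk _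
      (fun s => lift ((s.fst ≫ snd X Q)⁻¹ * (s.snd ≫ snd X Q)) s.snd) (fun s => ?_)
      (fun s => lift_snd _ _) (fun s m e₁ e₂ => ?_)⟩⟩
    · rw [hR]
      apply CartesianMonoidalCategory.hom_ext
      · rw [lift_fst, ← s.condition]
      · rw [lift_snd, _root_.mul_inv_rev, inv_inv, mul_inv_cancel_left]
    · have em : m = lift (m ≫ fst Q (X ⊗ Q)) s.snd := by
        conv_rhs => enter [2]; rw [← e₂]
        rw [← comp_lift, lift_fst_snd, Category.comp_id]
      have := congrArg (· ≫ snd X Q) e₁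
      rw [em, hR, lift_snd] at this
      rw [em, ← this, _root_.mul_inv_rev, inv_inv, _root_.mul_assoc, inv_mul_cancel, _root_.mul_one]
  have hb : IsPullback b.act (snd Q W) r r := by
    refine IsPullback.of_map (Over.forget S) hbr ?_
    have hA : IsPullback (R ≫ π).left (snd Q (X ⊗ Q)).left r.left ((fst X Q).left ≫ φ.left) := by
      rw [Over.comp_left]
      have hs' : IsPullback R.left (snd Q (X ⊗ Q)).left (fst X Q).left (fst X Q).left :=
        hshear.map (Over.forget S)
      exact (hs'.flip.paste_vert sq).flip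
    rw [← hact, Over.comp_left, sq.w] at hA
    have hbl : act.left ≫ r.left = (snd Q W).left ≫ r.left := by
      rw [← Over.comp_left, ← Over.comp_left]; exact congrArg CommaMorphism.left hbr
    let Ψ : (Q ⊗ W).left ⟶ pullback r.left r.left := pullback.lift act.left (snd Q W).left hbl
    have hwl := GrothLib.AssocBundle.isPullback_whiskerLeft_snd Q π
    let Ψ' : (Q ⊗ (X ⊗ Q)).left ⟶ pullback r.left (π.left ≫ r.left) := hA.isoPullback.hom
    let m : pullback r.left (π.left ≫ r.left) ⟶ pullback r.left r.left :=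
      pullback.lift (pullback.fst _ _) (pullback.snd _ _ ≫ π.left) (by rw [Category.assoc]; exact pullback.condition)
    have hm : IsPullback m (pullback.snd r.left (π.left ≫ r.left)) (pullback.snd r.left r.left) π.left := by
      refine IsPullback.of_right (h₁₂ := pullback.fst r.left r.left) (v₁₃ := r.left) (h₂₂ := r.left) ?_
        (pullback.lift_snd _ _ _) (IsPullback.of_hasPullback r.left r.left)
      rw [pullback.lift_fst]; exact IsPullback.of_hasPullback _ _
    have hbase : IsPullback (Q ◁ π).left Ψ' Ψ m := by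
      refine IsPullback.of_bot (h₃₁ := π.left) (v₂₁ := pullback.snd r.left (π.left ≫ r.left))
        (v₂₂ := pullback.snd r.left r.left) ?_ ?_ hm
      · rw [IsPullback.isoPullback_hom_snd, pullback.lift_snd]; exact hwl
      · apply pullback.hom_ext
        · simp only [Ψ, Ψ', m, Category.assoc, pullback.lift_fst]
          exact hA.isoPullback_hom_fst.symm
        · simp only [Ψ, Ψ', m, Category.assoc, pullback.lift_snd]
          rw [hA.isoPullback_hom_snd_assoc, hwl.w]
    have hmQ : (@Surjective ⊓ @Flat ⊓ @QuasiCompact : MorphismProperty Scheme.{u}) m :=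
      MorphismProperty.of_isPullback hm.flip ⟨⟨‹_›, ‹_›⟩, inferInstance⟩
    have hΨ : IsIso Ψ := (MorphismProperty.isomorphisms.iff _).1 <|
      MorphismProperty.of_isPullback_of_descendsAlong (P := MorphismProperty.isomorphisms Scheme.{u})
        (Q := @Surjective ⊓ @Flat ⊓ @QuasiCompact) hbase.flip hmQ
        ((MorphismProperty.isomorphisms.iff _).2 (inferInstanceAs (IsIso hA.isoPullback.hom)))
    exact IsPullback.of_iso_pullback ⟨hbl⟩ (@asIso _ _ _ _ Ψ hΨ) (pullback.lift_fst _ _ _) (pullback.lift_snd _ _ _)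
  let π₁ : X ⟶ W := lift (𝟙 X) (1 : X ⟶ Q) ≫ π
  have hπ₁ : ∀ {T : Over S} (x : T ⟶ X), x ≫ π₁ = lift x 1 ≫ π := fun x => by
    simp only [π₁, comp_lift_assoc, Category.comp_id, MonObj.comp_one]
  have hπ₁r : π₁ ≫ r = φ := by
    simp only [π₁, Category.assoc, ← sqO.w, lift_fst_assoc, Category.id_comp]
  refine ⟨W, b, π₁, r, hπ₁r, hb, ?_, ?_, ?_⟩
  · obtain ⟨R', hR', hsec⟩ := hloc
    refine ⟨R', hR', fun T f hf => ?_⟩
    obtain ⟨s, hs⟩ := hsec f hf
    refine ⟨s ≫ π₁.left, ?_⟩
    change (s ≫ π₁.left) ≫ r.left = f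
    rw [Category.assoc, ← Over.comp_left, hπ₁r]
    exact hs
  · have hr : ∀ {T : Over S} (n : T ⟶ N) (x : T ⟶ X),
        lift n x ≫ (a.restrict iN).act = lift (n ≫ iN) x ≫ a.act :=
      fun n x => AlgGrp.Action.lift_restrict_act iN a n x
    have hw : iN ≫ q = toUnit N ≫ η[Q] := hker.w
    have hw' : ∀ {T : Over S} (n : T ⟶ N), (n ≫ iN) ≫ q = 1 := fun {T} n => by
      rw [Category.assoc, hw, ← Category.assoc, toUnit_unique (n ≫ toUnit N) (toUnit T), Hom.one_def]
    have hex : ∀ {T : Over S} (x x' : T ⟶ X), x ≫ π₁ = x' ≫ π₁ →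
        ∃ n : T ⟶ N, lift n x' ≫ (a.restrict iN).act = x := by
      intro T x x' h
      obtain ⟨g, hg⟩ := heq (lift x 1) (lift x' 1) (by rw [← hπ₁, ← hπ₁]; exact h)
      have h1 := congrArg (· ≫ snd X Q) hg
      have h2 := congrArg (· ≫ fst X Q) hg
      simp only [lift_snd, lift_fst] at h1 h2
      have h3 : g ≫ q = toUnit T ≫ η[Q] := ((h1.trans (_root_.mul_one _)).symm).trans Hom.one_def
      refine ⟨hker.lift g (toUnit T) h3, ?_⟩
      rw [hr, hker.lift_fst]
      exact h2.symm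
    refine ⟨⟨?_⟩, ⟨PullbackCone.IsLimit.mk _ (fun s => lift (hex s.fst s.snd s.condition).choose s.snd)
      (fun s => (hex s.fst s.snd s.condition).choose_spec) (fun s => lift_snd _ _) (fun s m e₁ e₂ => ?_)⟩⟩
    · apply AlgGrp.Action.hom_ext_lift₂
      intro T n x
      rw [← Category.assoc, hr, hπ₁, lift_snd_assoc, hπ₁, ← hinv' (n ≫ iN) x 1, hw', _root_.one_mul]
    · have em : m = lift (m ≫ fst N X) s.snd := by
        conv_rhs => enter [2]; rw [← e₂]
        rw [← comp_lift, lift_fst_snd, Category.comp_id]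
      have h4 := (hex s.fst s.snd s.condition).choose_spec
      rw [em, hr] at e₁
      rw [hr] at h4
      have e3 : lift ((m ≫ fst N X) ≫ iN) s.snd =
          lift ((hex s.fst s.snd s.condition).choose ≫ iN) s.snd :=
        hcart.hom_ext (e₁.trans h4.symm) (by rw [lift_snd, lift_snd])
      have := congrArg (· ≫ fst G X) e3
      simp only [lift_fst] at this
      rw [em]
      congr 1
      exact hker.hom_ext this (toUnit_unique _ _)
  · let k : X ⊗ G ⟶ X := lift (snd X G)⁻¹ (fst X G) ≫ a.act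
    let e : X ⊗ G ⟶ W := (X ◁ q) ≫ π
    have hk : k ≫ π₁ = e := by
      rw [hπ₁, ← hinv' (snd X G) k 1, _root_.mul_one]
      simp only [k, ← AlgGrp.Action.lift_mul_act, mul_inv_cancel, AlgGrp.Action.lift_one_act, e]
      congr 1
      try (ext <;> simp)
    have hXq := GrothLib.AssocBundle.isPullback_whiskerLeft_snd X q
    haveI : Flat (X ◁ q).left := MorphismProperty.of_isPullback (P := @Flat) hXq.flip ‹_›
    haveI : Surjective (X ◁ q).left := MorphismProperty.of_isPullback (P := @Surjective) hXq.flip ‹_›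
    haveI : IsAffineHom (X ◁ q).left := MorphismProperty.of_isPullback (P := @IsAffineHom) hXq.flip ‹_›
    haveI : Flat e.left := by rw [Over.comp_left]; infer_instance
    haveI : Surjective e.left := by rw [Over.comp_left]; infer_instance
    haveI : QuasiCompact e.left := by rw [Over.comp_left]; infer_instance
    refine ⟨Presieve.singleton e.left, e.left.singleton_mem_fpqcPrecoverage, ?_⟩
    rintro T f ⟨⟩
    refine ⟨k.left, ?_⟩
    change k.left ≫ π₁.left = e.left
    rw [← Over.comp_left, hk]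

end GrothLib.CartTorsor
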