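import Groth.Prelude.Def_NonAbH2
import Groth.Agent.Lib.GrpdQuot.FlatQuot
import Groth.Agent.Lib.GrpdQuot.ActionGrpd
import Groth.Agent.Lib.Torsor21.Local
import Groth.Agent.Lib.AlgSp.FppfDescent
import Groth.Agent.Lib.DiagGrp.TrivOver

/-!
# Torsors given by a cartesian action square and fpqc local sections
-/

set_option autoImplicit false

universe u

open CategoryTheory CategoryTheory.Limits MonoidalCategory CartesianMonoidalCategory MonObj AlgebraicGeometry

namespace GrothLib.CartTorsor

variable {S : Scheme.{u}} {G X Y : Over S} [GrpObj G] {a : AlgGrp.Action G X} {φ : X ⟶ Y}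

/-- A property local for the fpqc topology passes from the group to the torsor. -/
theorem property (P : MorphismProperty Scheme.{u}) [IsZariskiLocalAtTarget P] [P.IsStableUnderBaseChange]
    [P.DescendsAlong (@Surjective ⊓ @Flat ⊓ @QuasiCompact : MorphismProperty Scheme.{u})]
    (hcart : IsPullback a.act (snd G X) φ φ)
    (hloc : NonAbH1.IsLocallyTrivialFor Scheme.fpqcPrecoverage (Over.mk φ.left : Over Y.left))
    (h : P G.hom) : P φ.left ∧ Surjective φ.left := by
  obtain ⟨R, hR, hsec⟩ := hloc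
  obtain ⟨κ, U, g, hg, href⟩ := FpqcRep.exists_small_refinement hR
  obtain ⟨hqc, hflat, hsurj⟩ := FpqcCov.quasiCompactCover_and_flat g hg
  have hs : ∀ i, ∃ s : U i ⟶ X.left, s ≫ φ.left = g i := fun i => by
    obtain ⟨Z, f, k, hf, hk⟩ := href i
    obtain ⟨s, hs⟩ := hsec f hf
    exact ⟨k ≫ s, by rw [Category.assoc, ← hk]; exact congrArg (k ≫ ·) hs⟩
  choose s hs using hs
  refine ⟨FpqcCov.of_fpqc P inferInstance φ.left (PreZeroHypercover.mk κ U g) hflat fun i => ?_, ⟨fun y => ?_⟩⟩
  · have sq : IsPullback (pullback.fst (snd G X).left (s i) ≫ a.act.left) (pullback.snd (snd G X).left (s i))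
        φ.left (g i) := by
      have h0 : IsPullback a.act.left (snd G X).left φ.left φ.left := hcart.map (Over.forget S)
      rw [← hs i]
      exact ((IsPullback.of_hasPullback (snd G X).left (s i)).flip.paste_vert h0.flip).flip
    show P (pullback.snd φ.left (g i))
    rw [← sq.isoPullback_inv_snd, P.cancel_left_of_respectsIso]
    exact P.pullback_snd _ _ (GrpdQuot.property_snd P h)
  · obtain ⟨i, x, rfl⟩ := hsurj y
    exact ⟨s i x, by rw [← Scheme.Hom.comp_apply, hs i]⟩

theorem affine_flat [IsAffineHom G.hom] [Flat G.hom]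
    (hcart : IsPullback a.act (snd G X) φ φ)
    (hloc : NonAbH1.IsLocallyTrivialFor Scheme.fpqcPrecoverage (Over.mk φ.left : Over Y.left)) :
    IsAffineHom φ.left ∧ Flat φ.left ∧ Surjective φ.left := by
  haveI := HasRingHomProperty.descendsAlong_flat (P := @Flat) GrothLib.AlgSp.codescendsAlong_flat
  exact ⟨(property @IsAffineHom.{u} hcart hloc inferInstance).1, property @Flat.{u} hcart hloc inferInstance⟩

theorem isGeomQuot [IsAffineHom G.hom] [Flat G.hom]
    (hcart : IsPullback a.act (snd G X) φ φ)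
    (hloc : NonAbH1.IsLocallyTrivialFor Scheme.fpqcPrecoverage (Over.mk φ.left : Over Y.left)) :
    IsAffineHom φ.left ∧ GIT.IsGeomQuot a φ := by
  obtain ⟨haff, hflat, hsurj⟩ := affine_flat hcart hloc
  have h0 : IsPullback a.act.left (snd G X).left φ.left φ.left := hcart.map (Over.forget S)
  have hinv : GIT.IsInvariant a φ := hcart.w
  refine ⟨haff, hinv, φ.left.surjective, fun p => ?_, fun X' Y' i₁ i₂ φ' h => ?_, fun U =>
    ⟨(GrpdQuot.sections_of_flat φ.left U).1, Set.ext fun f => ⟨?_, fun hf => ?_⟩⟩⟩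
  · refine ⟨h0.isoPullback.inv p, ?_⟩
    have e : h0.isoPullback.inv ≫ GIT.PsiY a φ hinv = 𝟙 _ := by
      apply pullback.hom_ext
      · rw [Category.assoc, GIT.PsiY, pullback.lift_fst, IsPullback.isoPullback_inv_fst, Category.id_comp]
      · rw [Category.assoc, GIT.PsiY, pullback.lift_snd, IsPullback.isoPullback_inv_snd, Category.id_comp]
    exact congrArg (fun t : pullback φ.left φ.left ⟶ pullback φ.left φ.left => t p) e
  · haveI : Flat φ' := MorphismProperty.of_isPullback (P := @Flat) h.flip hflat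
    haveI : Surjective φ' := MorphismProperty.of_isPullback (P := @Surjective) h.flip hsurj
    haveI : QuasiCompact φ' := MorphismProperty.of_isPullback (P := @QuasiCompact) h.flip inferInstance
    exact Flat.isQuotientMap_of_surjective φ'
  · rintro ⟨s, rfl⟩
    change GIT.IsInvSection a φ U _
    rw [GIT.IsInvSection, Scheme.Hom.app_eq_appLE, ← CommRingCat.comp_apply, ← CommRingCat.comp_apply,
      Scheme.Hom.appLE_comp_appLE, Scheme.Hom.appLE_comp_appLE]
    simp only [hinv.left]
  · refine (GrpdQuot.sections_of_flat φ.left U).2 f fun {Z} g₁ g₂ e₁ e₂ hg => ?_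
    let r := h0.lift g₁ g₂ hg
    let W : (G ⊗ X).left.Opens := a.act.left ⁻¹ᵁ (φ.left ⁻¹ᵁ U) ⊓ (snd G X).left ⁻¹ᵁ (φ.left ⁻¹ᵁ U)
    have hr : (⊤ : Z.Opens) ≤ r ⁻¹ᵁ W := fun x _ => by
      refine ⟨?_, ?_⟩
      · change (r ≫ a.act.left) x ∈ φ.left ⁻¹ᵁ U
        rw [h0.lift_fst]; exact e₁ trivial
      · change (r ≫ (snd G X).left) x ∈ φ.left ⁻¹ᵁ U
        rw [h0.lift_snd]; exact e₂ trivial
    have hf' : GIT.IsInvSection a φ U f := hf
    have h := congrArg (r.appLE W ⊤ hr) hf'
    rw [← CommRingCat.comp_apply, ← CommRingCat.comp_apply, Scheme.Hom.appLE_comp_appLE,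
      Scheme.Hom.appLE_comp_appLE] at h
    simpa only [r, h0.lift_fst, h0.lift_snd] using h

/-- A faithfully flat quasi-compact morphism is fpqc locally trivial. -/
theorem isLocallyTrivialFor_of_flat {Z W : Scheme.{u}} (f : Z ⟶ W) [Flat f] [Surjective f] [QuasiCompact f] :
    NonAbH1.IsLocallyTrivialFor Scheme.fpqcPrecoverage (Over.mk f : Over W) := by
  refine ⟨Presieve.singleton f, f.singleton_mem_fpqcPrecoverage, ?_⟩
  rintro S' g ⟨⟩
  exact ⟨𝟙 Z, Category.id_comp f⟩

end GrothLib.CartTorsor
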