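import Groth.Agent.Lib.Repr.GLHom
import Groth.Agent.Lib.DiagGrp.Points
import Groth.Prelude.Def_FrameBundle

/-!
# Matrix of a point of `FrB.GLn` over a field
-/

set_option autoImplicit false

universe u

open CategoryTheory CategoryTheory.Limits MonoidalCategory CartesianMonoidalCategory MonObj GrpObj
open AlgebraicGeometry VecGrp WithConv

noncomputable section

namespace GrothLib.CartTorsor

attribute [local instance 50] GrothLib.DiagGrp.algZ

variable {k : Type u} [Field k] {n : ℕ}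

/-- A point over `k` seen over the initial base. -/
def ptBase (R : Type u) [CommRing R] [Algebra k R] :
    (Over.map (IsTerminal.from specULiftZIsTerminal (Spec (CommRingCat.of k)))).obj (pt k R) ≅
      (Spec (CommRingCat.of R)).asOver (Spec (CommRingCat.of (ULift.{u} ℤ))) :=
  Over.isoMk (Iso.refl _) (specULiftZIsTerminal.hom_ext _ _)

/-- The matrix of a point. -/
def toMat (R : Type u) [CommRing R] [Algebra k R] (p : pt k R ⟶ FrB.GLn n (Spec (CommRingCat.of k))) :
    Matrix (Fin n) (Fin n) R :=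
  GrothLib.HMG.mat ((Spec.mapMulEquiv (R := ULift.{u} ℤ)).symm
    ((ptBase R).inv ≫ (GrothLib.DiagGrp.bcPointMulEquiv
      (IsTerminal.from specULiftZIsTerminal (Spec (CommRingCat.of k))) (FrB.GLZ n) (pt k R)).symm p)).ofConv

theorem toMat_mul (R : Type u) [CommRing R] [Algebra k R]
    (p q : pt k R ⟶ FrB.GLn n (Spec (CommRingCat.of k))) : toMat R (p * q) = toMat R p * toMat R q := by
  rw [toMat, map_mul, MonObj.comp_mul, map_mul]
  exact (congrArg GrothLib.HMG.mat (AlgHom.ext fun x => AlgHom.convMul_apply _ _ x)).trans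
    (GrothLib.HMG.mat_pmul _ _)

theorem toMat_one (R : Type u) [CommRing R] [Algebra k R] :
    toMat R (1 : pt k R ⟶ FrB.GLn n (Spec (CommRingCat.of k))) = 1 := by
  rw [toMat, map_one, MonObj.comp_one, map_one]
  exact GrothLib.HMG.mat_pone

theorem toMat_injective (R : Type u) [CommRing R] [Algebra k R] :
    Function.Injective (toMat (k := k) (n := n) R) := by
  intro p q h
  have h1 := (Spec.mapMulEquiv (R := ULift.{u} ℤ)).symm.injective
    (WithConv.ofConv_injective (GrothLib.HMG.ext_mat h))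
  rw [cancel_epi] at h1
  exact MulEquiv.injective _ h1

theorem exists_toMat (R : Type u) [CommRing R] [Algebra k R] (M : Matrix (Fin n) (Fin n) R) (h : IsUnit M.det) :
    ∃ p : pt k R ⟶ FrB.GLn n (Spec (CommRingCat.of k)), toMat R p = M := by
  refine ⟨GrothLib.DiagGrp.bcPointMulEquiv _ (FrB.GLZ n) (pt k R)
    ((ptBase R).hom ≫ Spec.mapMulEquiv (toConv (GrothLib.HMG.ofMat (k := ULift.{u} ℤ) M h))), ?_⟩
  rw [toMat, MulEquiv.symm_apply_apply, Iso.inv_hom_id_assoc, MulEquiv.symm_apply_apply, ofConv_toConv,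
    GrothLib.HMG.mat_ofMat]

theorem toMat_comp {R R' : Type u} [CommRing R] [Algebra k R] [CommRing R'] [Algebra k R'] (f : R →ₐ[k] R')
    (p : pt k R ⟶ FrB.GLn n (Spec (CommRingCat.of k))) : toMat R' (ptMap f ≫ p) = (toMat R p).map f := by
  let t := IsTerminal.from specULiftZIsTerminal (Spec (CommRingCat.of k))
  obtain ⟨z, rfl⟩ := (GrothLib.DiagGrp.bcPointMulEquiv t (FrB.GLZ n) (pt k R)).surjective p
  have e1 : ptMap f ≫ GrothLib.DiagGrp.bcPointMulEquiv t (FrB.GLZ n) (pt k R) z =
      GrothLib.DiagGrp.bcPointMulEquiv t (FrB.GLZ n) (pt k R') ((Over.map t).map (ptMap f) ≫ z) :=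
    (GrothLib.DiagGrp.bcPoint_comp t _ z).symm
  rw [toMat, toMat, e1, MulEquiv.symm_apply_apply, MulEquiv.symm_apply_apply]
  obtain ⟨w, hw⟩ := (Spec.mapMulEquiv (R := ULift.{u} ℤ) (T := R)).surjective ((ptBase R).inv ≫ z)
  rw [← hw, MulEquiv.symm_apply_apply]
  let fz : R →ₐ[ULift.{u} ℤ] R' := { f.toRingHom with
    commutes' := fun r => congr($(Subsingleton.elim (f.toRingHom.comp ((algebraMap (ULift.{u} ℤ) R).comp ULift.ringEquiv.symm.toRingHom))
      ((algebraMap (ULift.{u} ℤ) R').comp ULift.ringEquiv.symm.toRingHom)) (ULift.ringEquiv r)) }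
  have e2 : (ptBase R').inv ≫ (Over.map t).map (ptMap f) ≫ z =
      Spec.mapMulEquiv (toConv (fz.comp w.ofConv)) := by
    have hz : z = (ptBase R).hom ≫ Spec.mapMulEquiv w := by rw [hw, Iso.hom_inv_id_assoc]
    rw [hz]
    refine Over.OverMorphism.ext ?_
    show 𝟙 _ ≫ Spec.map (CommRingCat.ofHom f.toRingHom) ≫ 𝟙 _ ≫ Spec.map _ = Spec.map _
    rw [Category.id_comp, Category.id_comp, LieS.specMap_comp]
    rfl
  rw [e2, MulEquiv.symm_apply_apply, ofConv_toConv, GrothLib.HMG.mat_comp]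
  rfl

end GrothLib.CartTorsor
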