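import Mathlib.RingTheory.Flat.FaithfullyFlat.Basic
import Mathlib.RingTheory.Flat.FaithfullyFlat.Algebra
import Mathlib.RingTheory.LocalRing.ResidueField.Ideal
import Mathlib.RingTheory.TensorProduct.Finite
import Mathlib.RingTheory.TensorProduct.Maps
import Mathlib.LinearAlgebra.TensorProduct.Pi
import Mathlib.LinearAlgebra.Matrix.NonsingularInverse
import Mathlib.LinearAlgebra.Dimension.Constructions
import Mathlib.LinearAlgebra.StdBasis
import Mathlib.RingTheory.Finiteness.Descent

/-!
# Matrix cocycles of a faithfully flat algebra are locally coboundaries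
-/

set_option autoImplicit false

universe u

open TensorProduct Algebra.TensorProduct Matrix

namespace GrothLib.CartTorsor

variable (R A : Type u) [CommRing R] [CommRing A] [Algebra R A]

noncomputable abbrev d12 : A ⊗[R] A →ₐ[R] A ⊗[R] (A ⊗[R] A) :=
  Algebra.TensorProduct.map (AlgHom.id R A) includeLeft

noncomputable abbrev d13 : A ⊗[R] A →ₐ[R] A ⊗[R] (A ⊗[R] A) :=
  Algebra.TensorProduct.map (AlgHom.id R A) includeRight

noncomputable abbrev d23 : A ⊗[R] A →ₐ[R] A ⊗[R] (A ⊗[R] A) := includeRight

/-- `(a ⊗ b ⊗ c) ↦ (a b) ⊗ c`. -/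
noncomputable abbrev m12 : A ⊗[R] (A ⊗[R] A) →ₐ[R] A ⊗[R] A :=
  (Algebra.TensorProduct.map (Algebra.TensorProduct.lmul' R (S := A)) (AlgHom.id R A)).comp
    (Algebra.TensorProduct.assoc R R R A A A).symm.toAlgHom

theorem m12_d12 (z : A ⊗[R] A) :
    m12 R A (d12 R A z) = Algebra.TensorProduct.lmul' R (S := A) z ⊗ₜ 1 := by
  induction z using TensorProduct.induction_on with
  | zero => simp
  | tmul a b => simp [m12, d12]
  | add x y hx hy => simp only [map_add, hx, hy, add_tmul]

theorem m12_d13 (z : A ⊗[R] A) : m12 R A (d13 R A z) = z := by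
  induction z using TensorProduct.induction_on with
  | zero => simp
  | tmul a b => simp [m12, d13]
  | add x y hx hy => simp only [map_add, hx, hy]

theorem lmul_d13 (z : A ⊗[R] A) :
    Algebra.TensorProduct.lmul' R (m12 R A (d23 R A z)) = Algebra.TensorProduct.lmul' R (S := A) z := by
  induction z using TensorProduct.induction_on with
  | zero => simp
  | tmul a b => simp [m12, d23]
  | add x y hx hy => simp only [map_add, hx, hy]

variable {R A} {n : ℕ}

theorem mem_map_ann {Q : Type u} [AddCommGroup Q] [Module R Q] [Module.Flat R A] (q : Q) (a : A)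
    (ha : a ⊗ₜ[R] q = 0) :
    a ∈ Ideal.map (algebraMap R A) (LinearMap.ker (LinearMap.toSpanSingleton R Q q)) := by
  let I := LinearMap.ker (LinearMap.toSpanSingleton R Q q)
  have hex := Module.Flat.lTensor_exact A (LinearMap.exact_subtype_ker_map (LinearMap.toSpanSingleton R Q q))
  obtain ⟨t, ht⟩ := (hex (a ⊗ₜ (1 : R))).1 (by simpa using ha)
  have e : a = TensorProduct.rid R A (LinearMap.lTensor A I.subtype t) := by
    rw [ht]; simp
  rw [e]
  clear ht e
  induction t using TensorProduct.induction_on with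
  | zero => simp
  | tmul b r =>
    simp only [LinearMap.lTensor_tmul, Submodule.coe_subtype, TensorProduct.rid_tmul, Algebra.smul_def]
    exact Ideal.mul_mem_right _ _ (Ideal.mem_map_of_mem _ r.2)
  | add x y hx hy => rw [map_add, map_add]; exact Ideal.add_mem _ hx hy

/-- A matrix cocycle on a faithfully flat algebra is, near every prime of the base, a coboundary. -/
theorem exists_gauge [Module.FaithfullyFlat R A] (g h : Matrix (Fin n) (Fin n) (A ⊗[R] A)) (hhg : h * g = 1)
    (hcoc : g.map (d13 R A) = g.map (d12 R A) * g.map (d23 R A)) (p : Ideal R) [p.IsPrime] :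
    ∃ (f : R) (M N : Matrix (Fin n) (Fin n) A), f ∉ p ∧ M * N = algebraMap R A f • (1 : Matrix (Fin n) (Fin n) A) ∧
      M.map (includeLeft : A →ₐ[R] A ⊗[R] A) = g * M.map (includeRight : A →ₐ[R] A ⊗[R] A) := by
  haveI : Module.Flat R A := inferInstance
  let μ := Algebra.TensorProduct.lmul' R (S := A)
  have hgh : g * h = 1 := mul_eq_one_comm.mp hhg
  have hμg : g.map μ = 1 := by
    have e1 := congrArg (fun m : Matrix (Fin n) (Fin n) (A ⊗[R] (A ⊗[R] A)) => m.map (μ.comp (m12 R A))) hcoc
    simp only [Matrix.map_mul, Matrix.map_map] at e1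
    have a1 : (μ.comp (m12 R A)) ∘ d13 R A = μ := funext fun z => by
      show μ (m12 R A (d13 R A z)) = μ z; rw [m12_d13]
    have a2 : (μ.comp (m12 R A)) ∘ d12 R A = μ := funext fun z => by
      show μ (m12 R A (d12 R A z)) = μ z; rw [m12_d12]; simp [μ]
    have a3 : (μ.comp (m12 R A)) ∘ d23 R A = μ := funext fun z => lmul_d13 R A z
    rw [a1, a2, a3] at e1
    have e2 : h.map μ * g.map μ = 1 := by
      rw [← Matrix.map_mul, hhg, Matrix.map_one _ (map_zero μ) (map_one μ)]
    calc g.map μ = (h.map μ * g.map μ) * g.map μ := by rw [e2, Matrix.one_mul]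
      _ = h.map μ * g.map μ := by rw [Matrix.mul_assoc, ← e1]
      _ = 1 := e2
  -- the descended module
  let δ : (Fin n → A) →ₗ[R] (Fin n → A ⊗[R] A) :=
    (includeLeft : A →ₐ[R] A ⊗[R] A).toLinearMap.compLeft (Fin n) -
      (g.mulVecLin.restrictScalars R).comp ((includeRight : A →ₐ[R] A ⊗[R] A).toLinearMap.compLeft (Fin n))
  have hδ : ∀ (v : Fin n → A) (i : Fin n),
      δ v i = (v i ⊗ₜ[R] (1 : A)) - (g *ᵥ fun j => (1 : A) ⊗ₜ[R] v j) i := fun v i => rfl
  let V := LinearMap.ker δ
  let κ : A ⊗[R] (Fin n → A) ≃ₗ[R] (Fin n → A ⊗[R] A) := TensorProduct.piRight R R A (fun _ : Fin n => A)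
  let κ' : A ⊗[R] (Fin n → A ⊗[R] A) ≃ₗ[R] (Fin n → A ⊗[R] (A ⊗[R] A)) :=
    TensorProduct.piRight R R A (fun _ : Fin n => A ⊗[R] A)
  have hker : ∀ t : A ⊗[R] (Fin n → A), ∀ i, κ' (LinearMap.lTensor A δ t) i =
      d12 R A (κ t i) - (g.map (d23 R A) *ᵥ fun j => d13 R A (κ t j)) i := by
    intro t i
    induction t using TensorProduct.induction_on with
    | zero => simp [Matrix.mulVec, dotProduct]
    | tmul a v =>
      simp only [κ, κ', LinearMap.lTensor_tmul, TensorProduct.piRight_apply, TensorProduct.piRightHom_tmul,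
        hδ, TensorProduct.tmul_sub, Matrix.mulVec, dotProduct, TensorProduct.tmul_sum, Matrix.map_apply,
        Algebra.TensorProduct.map_tmul, AlgHom.coe_id, id_eq, includeLeft_apply, includeRight_apply,
        Algebra.TensorProduct.tmul_mul_tmul, _root_.one_mul]
    | add x y hx hy =>
      simp only [map_add, Pi.add_apply, hx, hy]
      have : (g.map (d23 R A) *ᵥ fun j => d13 R A (κ x j) + d13 R A (κ y j)) =
          (g.map (d23 R A) *ᵥ fun j => d13 R A (κ x j)) + (g.map (d23 R A) *ᵥ fun j => d13 R A (κ y j)) :=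
        Matrix.mulVec_add _ _ _
      rw [this, Pi.add_apply]; ring
  have hflip : ∀ w : Fin n → A ⊗[R] A, (∀ i, d12 R A (w i) = (g.map (d23 R A) *ᵥ fun j => d13 R A (w j)) i) →
      (g *ᵥ w) = fun i => μ (w i) ⊗ₜ[R] (1 : A) := by
    intro w hw
    have e : (fun i => d12 R A ((g *ᵥ w) i)) = fun i => d13 R A ((g *ᵥ w) i) := by
      funext i
      have e1 := RingHom.map_mulVec (d12 R A).toRingHom g w i
      have e2 := RingHom.map_mulVec (d13 R A).toRingHom g w i
      refine e1.trans (Eq.trans ?_ e2.symm)
      change (g.map (d12 R A) *ᵥ fun j => d12 R A (w j)) i = (g.map (d13 R A) *ᵥ fun j => d13 R A (w j)) i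
      rw [funext hw, Matrix.mulVec_mulVec, ← hcoc]
    have e' : (g *ᵥ w) = fun i => μ ((g *ᵥ w) i) ⊗ₜ[R] (1 : A) := by
      funext i
      have := congrArg (m12 R A) (congrFun e i)
      rw [m12_d12, m12_d13] at this
      exact this.symm
    rw [e']
    funext i
    have e3 := RingHom.map_mulVec μ.toRingHom g w i
    change μ ((g *ᵥ w) i) ⊗ₜ[R] (1 : A) = μ (w i) ⊗ₜ[R] 1
    rw [show μ ((g *ᵥ w) i) = (g.map μ *ᵥ fun j => μ (w j)) i from e3, hμg, Matrix.one_mulVec]
  let Φ : A ⊗[R] V →ₗ[A] (Fin n → A) := (Submodule.subtype V).liftBaseChange A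
  have hΦ : ∀ t i, Φ t i = μ (κ (LinearMap.lTensor A V.subtype t) i) := by
    intro t i
    induction t using TensorProduct.induction_on with
    | zero => simp
    | tmul a v => simp [Φ, κ, μ]
    | add x y hx hy => simp [map_add, hx, hy]
  have hex : Function.Exact (LinearMap.lTensor A V.subtype) (LinearMap.lTensor A δ) :=
    Module.Flat.lTensor_exact A (LinearMap.exact_subtype_ker_map δ)
  have hsol : ∀ t : A ⊗[R] V, ∀ i, d12 R A (κ (LinearMap.lTensor A V.subtype t) i) =
      (g.map (d23 R A) *ᵥ fun j => d13 R A (κ (LinearMap.lTensor A V.subtype t) j)) i := fun t i => by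
    have := hker (LinearMap.lTensor A V.subtype t) i
    rw [hex.apply_apply_eq_zero, map_zero] at this
    exact sub_eq_zero.mp this.symm
  have hΦinj : Function.Injective Φ := by
    refine LinearMap.ker_eq_bot.mp (LinearMap.ker_eq_bot'.mpr fun t ht => ?_)
    have h1 := hflip _ (hsol t)
    have h2 : (g *ᵥ fun i => κ (LinearMap.lTensor A V.subtype t) i) = 0 := by
      rw [h1]; funext i; rw [← hΦ, ht]; simp
    have h3 := congrArg (fun x => h *ᵥ x) h2
    simp only [Matrix.mulVec_mulVec, hhg, Matrix.one_mulVec, Matrix.mulVec_zero] at h3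
    refine Module.Flat.lTensor_preserves_injective_linearMap V.subtype Subtype.val_injective ?_
    refine κ.injective ?_
    rw [map_zero, map_zero]
    exact h3
  have hΦsurj : Function.Surjective Φ := by
    intro v
    let w := h *ᵥ fun i => v i ⊗ₜ[R] (1 : A)
    have hw : ∀ i, d12 R A (w i) = (g.map (d23 R A) *ᵥ fun j => d13 R A (w j)) i := by
      have hv : (fun i => d12 R A (v i ⊗ₜ[R] (1 : A))) = fun i => d13 R A (v i ⊗ₜ[R] (1 : A)) := by
        funext i; simp [d12, d13, Algebra.TensorProduct.one_def]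
      have e1 : (fun i => d12 R A (w i)) = h.map (d12 R A) *ᵥ fun i => d12 R A (v i ⊗ₜ[R] (1 : A)) :=
        funext fun i => RingHom.map_mulVec (d12 R A).toRingHom h _ i
      have e2 : (fun i => d13 R A (w i)) = h.map (d13 R A) *ᵥ fun i => d13 R A (v i ⊗ₜ[R] (1 : A)) :=
        funext fun i => RingHom.map_mulVec (d13 R A).toRingHom h _ i
      have e3 : g.map (d23 R A) * h.map (d13 R A) = h.map (d12 R A) := by
        have u1 : h.map (d12 R A) * g.map (d12 R A) = 1 := by
          rw [← Matrix.map_mul, hhg, Matrix.map_one _ (map_zero _) (map_one _)]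
        have u2 : g.map (d13 R A) * h.map (d13 R A) = 1 := by
          rw [← Matrix.map_mul, hgh, Matrix.map_one _ (map_zero _) (map_one _)]
        calc g.map (d23 R A) * h.map (d13 R A)
            = h.map (d12 R A) * g.map (d12 R A) * (g.map (d23 R A) * h.map (d13 R A)) := by
              rw [u1, Matrix.one_mul]
          _ = h.map (d12 R A) * (g.map (d13 R A) * h.map (d13 R A)) := by
              rw [hcoc]; simp only [Matrix.mul_assoc]
          _ = h.map (d12 R A) := by rw [u2, Matrix.mul_one]
      intro i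
      rw [show d12 R A (w i) = (fun i => d12 R A (w i)) i from rfl, e1, e2, hv, Matrix.mulVec_mulVec, e3]
    obtain ⟨t, ht⟩ := (hex (κ.symm w)).1 (κ'.injective (funext fun i => by
      rw [map_zero, hker, LinearEquiv.apply_symm_apply, hw i, sub_self]; rfl))
    refine ⟨t, funext fun i => ?_⟩
    rw [hΦ, ht, LinearEquiv.apply_symm_apply]
    have := RingHom.map_mulVec μ.toRingHom h (fun i => v i ⊗ₜ[R] (1 : A)) i
    refine this.trans ?_
    have hh : h.map μ = 1 := by
      have e2 : h.map μ * g.map μ = 1 := by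
        rw [← Matrix.map_mul, hhg, Matrix.map_one _ (map_zero μ) (map_one μ)]
      rwa [hμg, Matrix.mul_one] at e2
    change (h.map μ *ᵥ fun i => μ (v i ⊗ₜ[R] (1 : A))) i = v i
    rw [hh, Matrix.one_mulVec]; simp [μ]
  haveI : Module.Finite A (A ⊗[R] V) := Module.Finite.equiv (LinearEquiv.ofBijective Φ ⟨hΦinj, hΦsurj⟩).symm
  haveI : Module.Finite R V := Module.Finite.of_finite_tensorProduct_of_faithfullyFlat A
  -- a point above `p`
  obtain ⟨P, hP⟩ := PrimeSpectrum.comap_surjective_of_faithfullyFlat (A := R) (B := A) ⟨p, inferInstance⟩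
  let L := P.asIdeal.ResidueField
  let red : (Fin n → A) → (Fin n → L) := fun v i => algebraMap A L (v i)
  have hspan : Submodule.span L (Set.range fun v : V => red v.1) = ⊤ := by
    rw [eq_top_iff, ← (Pi.basisFun L (Fin n)).span_eq, Submodule.span_le]
    rintro _ ⟨i, rfl⟩
    obtain ⟨t, ht⟩ := hΦsurj (Pi.single i 1)
    have key : ∀ t, red (Φ t) ∈ Submodule.span L (Set.range fun v : V => red v.1) := by
      intro t
      induction t using TensorProduct.induction_on with
      | zero => rw [map_zero]; convert Submodule.zero_mem _; funext i; simp [red]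
      | tmul a v =>
        have : red (Φ (a ⊗ₜ v)) = algebraMap A L a • red v.1 := by
          funext i; simp [red, Φ]
        rw [this]
        exact Submodule.smul_mem _ _ (Submodule.subset_span ⟨v, rfl⟩)
      | add x y hx hy =>
        have : red (Φ (x + y)) = red (Φ x) + red (Φ y) := by funext i; simp [red]
        rw [this]; exact Submodule.add_mem _ hx hy
    have hk := key t
    rw [ht] at hk
    have he : red (Pi.single i 1) = Pi.basisFun L (Fin n) i := by
      funext j
      by_cases hij : j = i
      · subst hij; simp [red]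
      · simp [red, hij]
    rw [SetLike.mem_coe, ← he]
    exact hk
  obtain ⟨b, hb, hbspan, hli⟩ := exists_linearIndependent L (Set.range fun v : V => red v.1)
  rw [hspan] at hbspan
  let bb := Module.Basis.mk hli (by rw [Subtype.range_coe, hbspan])
  let e := bb.indexEquiv (Pi.basisFun L (Fin n))
  choose v hv using fun i => hb (e.symm i).2
  let M : Matrix (Fin n) (Fin n) A := fun i j => (v j).1 i
  have hdet : M.det ∉ P.asIdeal := by
    rw [← Ideal.algebraMap_residueField_eq_zero, ← ne_eq, ← isUnit_iff_ne_zero, RingHom.map_det,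
      ← Matrix.isUnit_iff_isUnit_det, ← Matrix.mulVec_surjective_iff_isUnit]
    intro y
    refine ⟨fun j => (bb.reindex e).repr y j, ?_⟩
    conv_rhs => rw [← (bb.reindex e).sum_repr y]
    funext i
    simp only [RingHom.mapMatrix_apply, Matrix.mulVec, dotProduct, Matrix.map_apply, Finset.sum_apply,
      Pi.smul_apply, smul_eq_mul, Module.Basis.reindex_apply, bb, Module.Basis.mk_apply]
    refine Finset.sum_congr rfl fun j _ => ?_
    rw [← hv j]
    exact mul_comm _ _
  let S : Submodule R V := Submodule.span R (Set.range v)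
  have hann : ∀ q : V ⧸ S, ∃ f : R, f ∉ p ∧ f • q = 0 := by
    intro q
    obtain ⟨w, rfl⟩ := Submodule.Quotient.mk_surjective _ q
    have hd : M.det ⊗ₜ[R] (Submodule.Quotient.mk w : V ⧸ S) = 0 := by
      have e1 : M.det ⊗ₜ[R] w = ∑ j, (M.adjugate *ᵥ w.1) j ⊗ₜ[R] v j := by
        refine hΦinj (funext fun i => ?_)
        have : (M *ᵥ (M.adjugate *ᵥ w.1)) i = M.det * w.1 i := by
          rw [Matrix.mulVec_mulVec, Matrix.mul_adjugate, Matrix.smul_mulVec, Matrix.one_mulVec]; rfl
        simp only [map_sum, Finset.sum_apply, Φ, LinearMap.liftBaseChange_tmul, Submodule.coe_subtype,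
          Pi.smul_apply, smul_eq_mul]
        rw [← this]
        simp only [Matrix.mulVec, dotProduct, M]
        exact Finset.sum_congr rfl fun j _ => mul_comm _ _
      have := congrArg (LinearMap.lTensor A S.mkQ) e1
      simp only [LinearMap.lTensor_tmul, map_sum, Submodule.mkQ_apply] at this
      rw [this]
      refine Finset.sum_eq_zero fun j _ => ?_
      rw [(Submodule.Quotient.mk_eq_zero S).mpr (Submodule.subset_span ⟨j, rfl⟩), TensorProduct.tmul_zero]
    have hI := mem_map_ann _ _ hd
    by_contra hcon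
    push Not at hcon
    refine hdet (Ideal.map_le_iff_le_comap.mpr (fun r hr => ?_) hI)
    have hr' : r ∈ p := by
      by_contra hrp
      exact hcon r hrp (by simpa using hr)
    have := congrArg PrimeSpectrum.asIdeal hP
    rw [← PrimeSpectrum.comap_asIdeal, this]
    exact hr'
  choose fq hfq hfq0 using hann
  obtain ⟨T, hT⟩ := (Module.Finite.fg_top : (⊤ : Submodule R (V ⧸ S)).FG)
  let f := ∏ q ∈ T, fq q
  have hf : f ∉ p := fun hmem => by
    obtain ⟨q, -, hq⟩ := (Ideal.IsPrime.prod_mem_iff).mp hmem
    exact hfq q hq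
  have hfS : ∀ w : V, f • w ∈ S := by
    intro w
    rw [← Submodule.Quotient.mk_eq_zero S, Submodule.Quotient.mk_smul]
    generalize hq0 : (Submodule.Quotient.mk w : V ⧸ S) = q0
    have hw : q0 ∈ Submodule.span R (T : Set (V ⧸ S)) := by rw [hT]; trivial
    clear hq0
    induction hw using Submodule.span_induction with
    | mem q hq =>
      obtain ⟨c, hc⟩ : fq q ∣ f := Finset.dvd_prod_of_mem _ hq
      rw [hc, mul_comm, mul_smul, hfq0, smul_zero]
    | zero => exact smul_zero _
    | add x y _ _ hx hy => rw [smul_add, hx, hy, add_zero]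
    | smul a x _ hx => rw [smul_comm, hx, smul_zero]
  have hrange : ∀ u : Fin n → A, algebraMap R A f • u ∈ LinearMap.range M.mulVecLin := by
    intro u
    obtain ⟨t, rfl⟩ := hΦsurj u
    induction t using TensorProduct.induction_on with
    | zero => simp
    | tmul a w =>
      have e1 : algebraMap R A f • Φ (a ⊗ₜ w) = a • ((f • w : V).1) := by
        simp [Φ, algebraMap_smul, smul_comm a f]
      rw [e1]
      refine Submodule.smul_mem _ _ ?_
      have hsub : S ≤ ((LinearMap.range M.mulVecLin).restrictScalars R).comap V.subtype := by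
        rw [Submodule.span_le]
        rintro _ ⟨j, rfl⟩
        refine ⟨Pi.single j 1, ?_⟩
        funext i
        simp [M]
      exact hsub (hfS w)
    | add x y hx hy => rw [map_add, smul_add]; exact Submodule.add_mem _ hx hy
  choose N hN using fun j => hrange (Pi.single j 1)
  refine ⟨f, M, fun i j => N j i, hf, ?_, ?_⟩
  · ext i j
    have := congrFun (hN j) i
    simpa [Matrix.mul_apply, Matrix.mulVec, dotProduct, Matrix.one_apply, Pi.single_apply] using this
  · ext i j
    have := congrFun (show δ (v j).1 = 0 from (v j).2) i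
    rw [hδ] at this
    exact sub_eq_zero.mp this

end GrothLib.CartTorsor
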