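import Groth.Prelude.Def_GLinSh
import Groth.Prelude.Def_Flat
import Groth.Agent.Lib.GrpdQuot.Stab
import Groth.Agent.Lib.GrpSchField.GrpDim
import Groth.Agent.Lib.FibreDimAt6.Scheme
import Groth.Agent.Lib.AssocBundle.Basic
import Groth.Agent.Lib.Ref1.Extend
import Mathlib.AlgebraicGeometry.Morphisms.FiniteType

/-!
# Semicontinuity of the dimension of stabilisers
-/

set_option autoImplicit false

universe u

open CategoryTheory CategoryTheory.Limits MonoidalCategory CartesianMonoidalCategory MonObj AlgebraicGeometry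

namespace GrothLib.CartTorsor

/-- On a group scheme over a field every nonempty open has full dimension. -/
theorem localDim_eq_dim {L : Type u} [Field L] (Z : Over (Spec (CommRingCat.of L))) [GrpObj Z]
    [LocallyOfFiniteType Z.hom] (z : Z.left) :
    FlatMor.localDim Z.left z = topologicalKrullDim Z.left := by
  refine le_antisymm ?_ ?_
  · refine (iInf_le _ ⟨⊤, trivial⟩).trans ?_
    exact topologicalKrullDim_subspace_le _ _
  · refine le_iInf fun U => ?_
    haveI : JacobsonSpace Z.left := LocallyOfFiniteType.jacobsonSpace Z.hom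
    obtain ⟨g, hgU, hgc⟩ := nonempty_inter_closedPoints (X := Z.left) (Z := (U.1 : Set Z.left))
      ⟨z, U.2⟩ U.1.2.isLocallyClosed
    rw [← GrothLib.GrpSchField.ringKrullDim_stalk_eq Z hgc]
    refine le_trans (le_of_eq ?_) (GrothLib.Ref1.ringKrullDim_stalk_le_topologicalKrullDim
      (X := (U.1 : Scheme.{u})) ⟨g, hgU⟩)
    exact (ringKrullDim_eq_of_ringEquiv (Scheme.Opens.stalkIso (U.1 : Z.left.Opens) ⟨g, hgU⟩).commRingCatIsoToRingEquiv).symm

variable {k : Type u} [Field k] {G X : Over (Spec (CommRingCat.of k))} [GrpObj G] [LocallyOfFiniteType G.hom]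
  (a : AlgGrp.Action G X)

theorem fibreDimAt_stab (z : GrothLib.GrpdQuot.stabObj a) :
    FlatMor.fibreDimAt (GrothLib.GrpdQuot.stab a) z =
      topologicalKrullDim ((GrothLib.GrpdQuot.stab a).fiber (GrothLib.GrpdQuot.stab a z)) := by
  let x₀ : Spec (CommRingCat.of (X.left.residueField (GrothLib.GrpdQuot.stab a z))) ⟶ X.left :=
    X.left.fromSpecResidueField (GrothLib.GrpdQuot.stab a z)
  letI := GrothLib.GrpdQuot.stabFibreGrpObj a x₀
  haveI := GrothLib.GrpdQuot.locallyOfFiniteType_stab a
  haveI : LocallyOfFiniteType (GrothLib.GrpdQuot.stabFibre a x₀).hom :=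
    MorphismProperty.pullback_snd (P := @LocallyOfFiniteType) _ _ inferInstance
  exact localDim_eq_dim (GrothLib.GrpdQuot.stabFibre a x₀) ((GrothLib.GrpdQuot.stab a).asFiber z)

/-- The stabiliser of a point is the fibre of the stabiliser scheme. -/
theorem topologicalKrullDim_stab_point {T : Over (Spec (CommRingCat.of k))} (f : T ⟶ X) :
    topologicalKrullDim (GLinSh.stab a f) =
      topologicalKrullDim (pullback (GrothLib.GrpdQuot.stab a) f.left : Scheme.{u}) := by
  have h1 := GrothLib.AssocBundle.isPullback_whiskerLeft_snd G f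
  have h2 := GrothLib.AssocBundle.isPullback_whiskerLeft_snd X f
  have e1 : (GIT.psi a f).left ≫ (snd X T).left = (snd G T).left := by
    rw [← Over.comp_left, GIT.psi, lift_snd]
  have e2 : (GIT.psi a (𝟙 X)).left ≫ (snd X X).left = (snd G X).left := by
    rw [← Over.comp_left, GrothLib.GrpdQuot.psi_snd]
  have hc : GIT.psi a f ≫ (X ◁ f) = (G ◁ f) ≫ GIT.psi a (𝟙 X) := by
    apply CartesianMonoidalCategory.hom_ext
    · rw [Category.assoc, whiskerLeft_fst, GIT.psi, lift_fst, Category.assoc, GrothLib.GrpdQuot.psi_fst]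
    · rw [Category.assoc, whiskerLeft_snd, GIT.psi, lift_snd_assoc, Category.assoc, GrothLib.GrpdQuot.psi_snd,
        whiskerLeft_snd]
  have sq : IsPullback (G ◁ f).left (GIT.psi a f).left (GIT.psi a (𝟙 X)).left (X ◁ f).left := by
    refine IsPullback.of_bot ?_ ?_ h2
    · rw [e1, e2]; exact h1
    · rw [← Over.comp_left, ← Over.comp_left, hc]
  let s := (lift f (𝟙 T)).left
  have hs : s ≫ (X ◁ f).left = f.left ≫ (GrothLib.GrpdQuot.diagX X).left := by
    rw [← Over.comp_left, ← Over.comp_left, lift_whiskerLeft, Category.id_comp, comp_lift, Category.comp_id]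
  have A : IsPullback (pullback.fst (GIT.psi a f).left s ≫ (G ◁ f).left) (pullback.snd (GIT.psi a f).left s)
      (GIT.psi a (𝟙 X)).left (s ≫ (X ◁ f).left) :=
    ((IsPullback.of_hasPullback (GIT.psi a f).left s).flip.paste_vert sq.flip).flip
  have B : IsPullback (pullback.fst (GrothLib.GrpdQuot.stab a) f.left ≫
      pullback.fst (GIT.psi a (𝟙 X)).left (GrothLib.GrpdQuot.diagX X).left)
      (pullback.snd (GrothLib.GrpdQuot.stab a) f.left) (GIT.psi a (𝟙 X)).left
      (f.left ≫ (GrothLib.GrpdQuot.diagX X).left) :=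
    ((IsPullback.of_hasPullback (GrothLib.GrpdQuot.stab a) f.left).flip.paste_vert
      (IsPullback.of_hasPullback (GIT.psi a (𝟙 X)).left (GrothLib.GrpdQuot.diagX X).left).flip).flip
  rw [hs] at A
  exact IsHomeomorph.topologicalKrullDim_eq _ (A.isoIsPullback _ _ B).hom.homeomorph.isHomeomorph

theorem isClosed_le_stab_dim (n : WithBot ℕ∞) :
    IsClosed {x : X.left | n ≤ topologicalKrullDim
      (GLinSh.stab a (Over.homMk (X.left.fromSpecResidueField x) rfl :
        Over.mk (X.left.fromSpecResidueField x ≫ X.hom) ⟶ X))} := by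
  haveI := GrothLib.GrpdQuot.locallyOfFiniteType_stab a
  obtain ⟨e, he⟩ := GrothLib.GrpdQuot.exists_stab_section a
  let F := fun x => FlatMor.fibreDimAt (GrothLib.GrpdQuot.stab a) (e x)
  have hset : {x : X.left | n ≤ topologicalKrullDim
      (GLinSh.stab a (Over.homMk (X.left.fromSpecResidueField x) rfl :
        Over.mk (X.left.fromSpecResidueField x ≫ X.hom) ⟶ X))} = {x | n ≤ F x} := by
    ext x
    have hx : GrothLib.GrpdQuot.stab a (e x) = x := by rw [← Scheme.Hom.comp_apply, he]; rfl
    simp only [Set.mem_setOf_eq, F]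
    rw [fibreDimAt_stab, hx, topologicalKrullDim_stab_point]
    rfl
  rw [hset]
  have hnat : ∀ m : ℕ, IsClosed {x : X.left | ((m : ℕ∞) : WithBot ℕ∞) ≤ F x} := by
    intro m
    cases m with
    | zero =>
      have : {x : X.left | (((0 : ℕ) : ℕ∞) : WithBot ℕ∞) ≤ F x} = Set.univ := by
        refine Set.eq_univ_of_forall fun x => ?_
        change _ ≤ FlatMor.fibreDimAt (GrothLib.GrpdQuot.stab a) (e x)
        rw [fibreDimAt_stab]
        let w := (GrothLib.GrpdQuot.stab a).asFiber (e x)
        haveI : Nonempty (TopologicalSpace.IrreducibleCloseds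
            ((GrothLib.GrpdQuot.stab a).fiber (GrothLib.GrpdQuot.stab a (e x)))) :=
          ⟨⟨irreducibleComponent w, isIrreducible_irreducibleComponent, isClosed_irreducibleComponent⟩⟩
        exact Order.krullDim_nonneg
      rw [this]; exact isClosed_univ
    | succ m =>
      have ho := (GrothLib.FibreDimAt6.isOpen_fibreDimAt_le (GrothLib.GrpdQuot.stab a) m).preimage e.continuous
      have hiff : ∀ d : WithBot ℕ∞, (((m + 1 : ℕ) : ℕ∞) : WithBot ℕ∞) ≤ d ↔ ¬ d ≤ (m : WithBot ℕ∞) := by
        intro d
        induction d using WithBot.recBotCoe with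
        | bot => simp
        | coe d =>
          rw [show (m : WithBot ℕ∞) = ((m : ℕ∞) : WithBot ℕ∞) from rfl, WithBot.coe_le_coe, WithBot.coe_le_coe]
          cases d with
          | top => simp
          | coe d => norm_cast; omega
      rw [← isOpen_compl_iff]
      convert ho using 1
      ext x
      simp only [Set.mem_compl_iff, Set.mem_setOf_eq, hiff, not_not, Set.mem_preimage, F]
  induction n using WithBot.recBotCoe with
  | bot => simpa using isClosed_univ
  | coe n =>
    cases n with
    | top =>
      have : {x : X.left | ((⊤ : ℕ∞) : WithBot ℕ∞) ≤ F x} =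
          ⋂ m : ℕ, {x : X.left | ((m : ℕ∞) : WithBot ℕ∞) ≤ F x} := by
        ext x
        simp only [Set.mem_setOf_eq, Set.mem_iInter]
        refine ⟨fun h m => le_trans (WithBot.coe_le_coe.mpr le_top) h, fun h => ?_⟩
        generalize F x = d at h
        induction d using WithBot.recBotCoe with
        | bot => simpa using h 0
        | coe d =>
          rw [WithBot.coe_le_coe]
          cases d with
          | top => exact le_rfl
          | coe d =>
            have := h (d + 1)
            rw [WithBot.coe_le_coe] at this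
            norm_cast at this
            omega
      rw [this]
      exact isClosed_iInter hnat
    | coe m => exact hnat m

end GrothLib.CartTorsor
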